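import Cfsg.Agent.Lib.G2Four.Link

/-!
The kernel checks for the six-dimensional module.
-/

set_option autoImplicit false
set_option maxRecDepth 100000

namespace CfsgLib.G2Four

/-- sums of codes -/
def sumN : ℕ → (ℕ → ℕ) → ℕ
  | 0, _ => 0
  | n + 1, f => sumN n f ^^^ f n

/-- bounded universal check -/
def allN : ℕ → (ℕ → Bool) → Bool
  | 0, _ => true
  | n + 1, f => f n && allN n f

theorem allN_iff : ∀ {n : ℕ} {f : ℕ → Bool}, allN n f = true → ∀ k < n, f k = true
  | 0, _, _, k, hk => absurd hk (Nat.not_lt_zero k)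
  | n + 1, f, h, k, hk => by
    simp only [allN, Bool.and_eq_true] at h
    rcases Nat.lt_succ_iff_lt_or_eq.1 hk with hk | rfl
    · exact allN_iff h.2 k hk
    · exact h.1

/-- packed root element in six dimensions -/
def yN (r t i j : ℕ) : ℕ := ent (Data.yT.getD (4 * r + t) 0) (6 * i + j)

/-- packed pairing -/
def sN (k a b : ℕ) : ℕ := ent (Data.sT.getD k 0) (6 * a + b)

/-- a product skipping zeros -/
def mulZ (a : ℕ) (b : ℕ) : ℕ := bif a == 0 then 0 else mulN a b

/-- entry of the transformed pairing -/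
def lhsN (r t k a b : ℕ) : ℕ :=
  sumN 6 fun c => mulZ (yN r t c a) (sumN 6 fun d => mulZ (sN k c d) (yN r t d b))

/-- the check for the root `r` -/
def rootChk (r : ℕ) : Bool :=
  allN 4 fun t =>
    (allN 6 fun a => allN 6 fun b =>
      lhsN r t 14 a b == sN 14 a b &&
      sumN 6 (fun c => mulZ (yN r t a c) (yN r t c b)) == (bif a == b then 1 else 0)) &&
    (allN 14 fun i => allN 6 fun a => allN 6 fun b =>
      lhsN r t i a b == sumN 14 (fun k => mulZ (sN k a b) (xN r t i k))) &&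
    (allN 14 fun i => allN 14 fun j =>
      sumN 14 (fun k => mulZ (xN r t i k) (xN r t k j)) == (bif i == j then 1 else 0))

theorem rootChk_all : allN 12 rootChk = true := by decide +kernel

/-- the pairings determine the elementary alternating matrices -/
def elemChk : Bool :=
  allN 6 fun c => allN 6 fun d => c == d || allN 6 fun a => allN 6 fun b =>
    sumN 15 (fun k => mulZ (ent (Data.cT.getD (6 * c + d) 0) k) (sN k a b)) ==
      (bif (a == c && b == d) || (a == d && b == c) then 1 else 0)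

theorem elemChk_eq : elemChk = true := by decide +kernel

/-- positions where exactly one pairing is nonzero -/
def posChk : Bool :=
  allN 14 fun k => allN 14 fun l =>
    sN l (Data.posT.getD k 0 / 6) (Data.posT.getD k 0 % 6) == (bif l == k then 1 else 0)

theorem posChk_eq : posChk = true := by decide +kernel

theorem pos_lt : allN 14 (fun k => decide (Data.posT.getD k 0 / 6 < 6)) = true := by decide +kernel

/-- product of packed square matrices of size six, entrywise -/
def mulChk (A B C : ℕ) : Bool :=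
  allN 6 fun i => allN 6 fun j =>
    sumN 6 (fun k => mulZ (ent A (6 * i + k)) (ent B (6 * k + j))) == ent C (6 * i + j)

/-- the identity, packed -/
def oneP : ℕ :=
  1 + 2 ^ (2 * 7) + 2 ^ (2 * 14) + 2 ^ (2 * 21) + 2 ^ (2 * 28) + 2 ^ (2 * 35)

theorem oneP_eq : allN 6 (fun i => allN 6 fun j => ent oneP (6 * i + j) == (bif i == j then 1 else 0)) = true := by
  decide +kernel

/-- the partial products of the sample words and their powers -/
def sampleChk : Bool :=
  mulChk oneP (Data.yT.getD (4 * 6 + 1) 0) (Data.w7.getD 0 0) &&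
  mulChk (Data.w7.getD 0 0) (Data.yT.getD (4 * 7 + 1) 0) (Data.w7.getD 1 0) &&
  mulChk (Data.w7.getD 1 0) (Data.yT.getD (4 * 5 + 1) 0) (Data.w7.getD 2 0) &&
  mulChk (Data.w7.getD 2 0) (Data.yT.getD (4 * 4 + 1) 0) (Data.p7.getD 0 0) &&
  mulChk (Data.p7.getD 0 0) (Data.p7.getD 0 0) (Data.p7.getD 1 0) &&
  mulChk (Data.p7.getD 1 0) (Data.p7.getD 1 0) (Data.p7.getD 2 0) &&
  mulChk (Data.p7.getD 2 0) (Data.p7.getD 1 0) (Data.p7.getD 3 0) &&
  mulChk (Data.p7.getD 3 0) (Data.p7.getD 0 0) oneP &&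
  mulChk oneP (Data.yT.getD (4 * 6 + 1) 0) (Data.w13.getD 0 0) &&
  mulChk (Data.w13.getD 0 0) (Data.yT.getD (4 * 7 + 2) 0) (Data.w13.getD 1 0) &&
  mulChk (Data.w13.getD 1 0) (Data.yT.getD (4 * 5 + 2) 0) (Data.w13.getD 2 0) &&
  mulChk (Data.w13.getD 2 0) (Data.yT.getD (4 * 4 + 2) 0) (Data.p13.getD 0 0) &&
  mulChk (Data.p13.getD 0 0) (Data.p13.getD 0 0) (Data.p13.getD 1 0) &&
  mulChk (Data.p13.getD 1 0) (Data.p13.getD 1 0) (Data.p13.getD 2 0) &&
  mulChk (Data.p13.getD 2 0) (Data.p13.getD 2 0) (Data.p13.getD 3 0) &&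
  mulChk (Data.p13.getD 3 0) (Data.p13.getD 2 0) (Data.p13.getD 4 0) &&
  mulChk (Data.p13.getD 4 0) (Data.p13.getD 0 0) oneP &&
  mulChk (Data.fpf.getD 0 0) (Data.p7.getD 0 0 ^^^ oneP) oneP &&
  mulChk (Data.fpf.getD 1 0) (Data.p13.getD 0 0 ^^^ oneP) oneP &&
  (Data.p7.getD 0 0 != oneP) && (Data.p13.getD 0 0 != oneP)

theorem sampleChk_eq : sampleChk = true := by decide +kernel

end CfsgLib.G2Four
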