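import Mathlib

/-!
The field with four elements, computable.
-/

set_option autoImplicit false

namespace CfsgLib.G2Four

/-- The field with four elements: `0, 1, ω, ω + 1`. -/
inductive Q4 where
  | o | e | w | x
  deriving DecidableEq

namespace Q4

instance : Fintype Q4 :=
  ⟨⟨[o, e, w, x], by decide⟩, fun a => by cases a <;> decide⟩

/-- addition -/
def add : Q4 → Q4 → Q4
  | o, b => b
  | a, o => a
  | e, e => o
  | w, w => o
  | x, x => o
  | e, w => x
  | w, e => x
  | e, x => w
  | x, e => w
  | w, x => e
  | x, w => e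

/-- multiplication -/
def mul : Q4 → Q4 → Q4
  | o, _ => o
  | e, b => b
  | _, o => o
  | a, e => a
  | w, w => x
  | w, x => e
  | x, w => e
  | x, x => w

/-- inverse -/
def inv : Q4 → Q4
  | o => o
  | e => e
  | w => x
  | x => w

instance : Add Q4 := ⟨add⟩
instance : Zero Q4 := ⟨o⟩
instance : Mul Q4 := ⟨mul⟩
instance : One Q4 := ⟨e⟩
instance : Neg Q4 := ⟨fun a => a⟩
instance : Inv Q4 := ⟨inv⟩

instance : Field Q4 where
  add_assoc a b c := by cases a <;> cases b <;> cases c <;> rfl
  zero_add a := by cases a <;> rfl
  add_zero a := by cases a <;> rfl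
  neg_add_cancel a := by cases a <;> rfl
  add_comm a b := by cases a <;> cases b <;> rfl
  mul_assoc a b c := by cases a <;> cases b <;> cases c <;> rfl
  one_mul a := by cases a <;> rfl
  mul_one a := by cases a <;> rfl
  zero_mul a := by cases a <;> rfl
  mul_zero a := by cases a <;> rfl
  left_distrib a b c := by cases a <;> cases b <;> cases c <;> rfl
  right_distrib a b c := by cases a <;> cases b <;> cases c <;> rfl
  mul_comm a b := by cases a <;> cases b <;> rfl
  exists_pair_ne := ⟨o, e, by decide⟩
  mul_inv_cancel a h := by cases a <;> first | exact absurd rfl h | rfl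
  inv_zero := rfl
  nsmul := nsmulRec
  zsmul := zsmulRec
  qsmul := _
  qsmul_def := fun _ _ => rfl
  nnqsmul := _
  nnqsmul_def := fun _ _ => rfl

theorem card_eq : Fintype.card Q4 = 4 := rfl

theorem add_self (a : Q4) : a + a = 0 := by cases a <;> rfl

theorem eq_one_of_sq : ∀ a : Q4, a * a = 1 → a = 1 := by decide

end Q4

end CfsgLib.G2Four
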