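import Cfsg.Agent.Lib.G2Four.Module
import Cfsg.Agent.S1059

/-!
Elements of order seven and thirteen fix no nonzero vector of the six-dimensional module.
-/

set_option autoImplicit false
set_option linter.style.haveILetI false

namespace CfsgLib.G2Four

open Cfsg.Lie Matrix

/-- a sample word -/
def word (t : Q4) : ↥G4 :=
  ⟨xel ⟨6, by decide⟩ 1, xel_mem _ _⟩ * ⟨xel ⟨7, by decide⟩ t, xel_mem _ _⟩ *
    ⟨xel ⟨5, by decide⟩ t, xel_mem _ _⟩ * ⟨xel ⟨4, by decide⟩ t, xel_mem _ _⟩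

theorem rho_word (t : Q4) (a b c d : ℕ) (h1 : mulChk oneP (Data.yT.getD (4 * 6 + 1) 0) a = true)
    (h2 : mulChk a (Data.yT.getD (4 * 7 + code t) 0) b = true)
    (h3 : mulChk b (Data.yT.getD (4 * 5 + code t) 0) c = true)
    (h4 : mulChk c (Data.yT.getD (4 * 4 + code t) 0) d = true) :
    ((rho (word t) : GL (Fin 6) Q4) : Matrix (Fin 6) (Fin 6) Q4) = unp d := by
  rw [word, map_mul, map_mul, map_mul, rho_xel, rho_xel, rho_xel, rho_xel, Units.val_mul, Units.val_mul,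
    Units.val_mul]
  show Ym _ 1 * Ym _ t * Ym _ t * Ym _ t = _
  rw [← unp_mul h4, ← unp_mul h3, ← unp_mul h2, ← unp_mul h1, unp_one, one_mul]
  rfl

theorem samples : ∃ m n : ↥G4, (orderOf m = 7 ∧ ∀ v : Fin 6 → Q4,
      (rho m : Matrix (Fin 6) (Fin 6) Q4) *ᵥ v = v → v = 0) ∧
    (orderOf n = 13 ∧ ∀ v : Fin 6 → Q4, (rho n : Matrix (Fin 6) (Fin 6) Q4) *ᵥ v = v → v = 0) := by
  have h := sampleChk_eq
  simp only [sampleChk, Bool.and_eq_true, bne_iff_ne] at h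
  obtain ⟨⟨⟨⟨⟨⟨⟨⟨⟨⟨⟨⟨⟨⟨⟨⟨⟨⟨⟨⟨a1, a2⟩, a3⟩, a4⟩, a5⟩, a6⟩, a7⟩, a8⟩, b1⟩, b2⟩, b3⟩, b4⟩, b5⟩, b6⟩,
    b7⟩, b8⟩, b9⟩, fa⟩, fb⟩, na⟩, nb⟩ := h
  have hA := rho_word 1 _ _ _ _ a1 a2 a3 a4
  have hB := rho_word Q4.w _ _ _ _ b1 b2 b3 b4
  have hxor : ∀ A : ℕ, unp (A ^^^ oneP) = unp A + 1 := by
    intro A
    rw [← unp_one]
    ext i j
    show dec4 (ent (A ^^^ oneP) _) = dec4 (ent A _) + dec4 (ent oneP _)
    rw [← (dec4_xor _ (ent_lt _ _) _ (ent_lt _ _)).1]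
    congr 1
    simp [ent, Nat.shiftRight_xor_distrib, Nat.and_xor_distrib_right]
  have hne : ∀ A : ℕ, A = Data.p7.getD 0 0 ∨ A = Data.p13.getD 0 0 → unp A ≠ 1 := by
    intro A hA' e
    have h1 : allN 6 (fun i => allN 6 fun j =>
        ent (Data.p7.getD 0 0) (6 * i + j) == ent oneP (6 * i + j)) = false ∧
        allN 6 (fun i => allN 6 fun j =>
        ent (Data.p13.getD 0 0) (6 * i + j) == ent oneP (6 * i + j)) = false := by decide +kernel
    have h2 : allN 6 (fun i => allN 6 fun j => ent A (6 * i + j) == ent oneP (6 * i + j)) = true := by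
      have key : ∀ n (f : ℕ → Bool), (∀ k < n, f k = true) → allN n f = true := by
        intro n
        induction n with
        | zero => intro f _; rfl
        | succ n ih =>
          intro f hf
          simp only [allN, Bool.and_eq_true]
          exact ⟨hf n n.lt_succ_self, ih f fun k hk => hf k (hk.trans n.lt_succ_self)⟩
      refine key _ _ fun i hi => key _ _ fun j hj => beq_iff_eq.2 (dec4_inj _ (ent_lt _ _) _ (ent_lt _ _) ?_)
      have := congrFun (congrFun (e.trans unp_one.symm) ⟨i, hi⟩) ⟨j, hj⟩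
      exact this
    rcases hA' with rfl | rfl
    · rw [h1.1] at h2; exact Bool.false_ne_true h2
    · rw [h1.2] at h2; exact Bool.false_ne_true h2
  have main : ∀ (m : ↥G4) (P : ℕ) (N : ℕ) (q : ℕ), q.Prime →
      (rho m : Matrix (Fin 6) (Fin 6) Q4) = unp P → unp P ≠ 1 → unp P ^ q = 1 →
      mulChk N (P ^^^ oneP) oneP = true →
      orderOf m = q ∧ ∀ v : Fin 6 → Q4, (rho m : Matrix (Fin 6) (Fin 6) Q4) *ᵥ v = v → v = 0 := by
    intro m P N q hq hm hP hpow hN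
    haveI := Fact.mk hq
    refine ⟨?_, fun v hv => ?_⟩
    · rw [← orderOf_injective rho rho_injective]
      refine orderOf_eq_prime (Units.ext ?_) fun e => hP ?_
      · rw [Units.val_pow_eq_pow_val, hm]; exact hpow
      · rw [← hm, e]; rfl
    · have h1 := unp_mul hN
      rw [hxor, unp_one] at h1
      calc v = (1 : Matrix (Fin 6) (Fin 6) Q4) *ᵥ v := (Matrix.one_mulVec v).symm
        _ = (unp N * (unp P + 1)) *ᵥ v := by rw [h1]
        _ = 0 := by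
          rw [← Matrix.mulVec_mulVec, Matrix.add_mulVec, ← hm, hv, Matrix.one_mulVec]
          have : v + v = 0 := funext fun i => Q4.add_self (v i)
          rw [this, Matrix.mulVec_zero]
  refine ⟨word 1, word Q4.w, main _ _ _ 7 (by norm_num) hA (hne _ (Or.inl rfl)) ?_ fa,
    main _ _ _ 13 (by norm_num) hB (hne _ (Or.inr rfl)) ?_ fb⟩
  · have e1 := unp_mul a5
    have e2 := unp_mul a6
    have e3 := unp_mul a7
    have e4 := unp_mul a8
    rw [unp_one, ← e3, ← e2, ← e1] at e4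
    rw [← e4]
    simp [pow_succ, Matrix.mul_assoc]
  · have e1 := unp_mul b5
    have e2 := unp_mul b6
    have e3 := unp_mul b7
    have e4 := unp_mul b8
    have e5 := unp_mul b9
    rw [unp_one, ← e4, ← e3, ← e2, ← e1] at e5
    rw [← e5]
    simp [pow_succ, Matrix.mul_assoc]

theorem card_G4 : Nat.card ↥G4 = 4 ^ 6 * (4 ^ 2 - 1) * (4 ^ 6 - 1) :=
  Cfsg.Agent.S1059.result Q4.card_eq

/-- elements of order seven or thirteen fix no nonzero vector -/
theorem fixed_free {x : ↥G4} {q : ℕ} (hx : orderOf x = q) (hq : q = 7 ∨ q = 13) {v : Fin 6 → Q4}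
    (hv : (rho x : Matrix (Fin 6) (Fin 6) Q4) *ᵥ v = v) : v = 0 := by
  obtain ⟨m, n, hm, hn⟩ := samples
  obtain ⟨s, hs, hfree⟩ : ∃ s : ↥G4, orderOf s = q ∧
      ∀ w : Fin 6 → Q4, (rho s : Matrix (Fin 6) (Fin 6) Q4) *ᵥ w = w → w = 0 := by
    rcases hq with rfl | rfl
    · exact ⟨m, hm⟩
    · exact ⟨n, hn⟩
  have hp : q.Prime := by rcases hq with rfl | rfl <;> norm_num
  haveI := Fact.mk hp
  have hsq : ¬ q ^ 2 ∣ Nat.card ↥G4 := by rw [card_G4]; rcases hq with rfl | rfl <;> norm_num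
  have syl : ∀ y : ↥G4, orderOf y = q → ∃ P : Sylow q ↥G4, (P : Subgroup ↥G4) = Subgroup.zpowers y := by
    intro y hy
    obtain ⟨P, hP⟩ := (IsPGroup.of_card (p := q) (n := 1) (G := Subgroup.zpowers y)
      (by rw [Nat.card_zpowers, hy, pow_one])).exists_le_sylow
    refine ⟨P, (Subgroup.eq_of_le_of_card_ge hP ?_).symm⟩
    obtain ⟨k, hk⟩ := IsPGroup.iff_card.1 P.2
    rw [Nat.card_zpowers, hy, hk]
    rcases Nat.lt_or_ge k 2 with h | h
    · exact (pow_le_pow_right₀ hp.one_le (Nat.le_of_lt_succ h)).trans (le_of_eq (pow_one q))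
    · exact absurd ((pow_dvd_pow q h).trans (hk ▸ Subgroup.card_subgroup_dvd_card _)) hsq
  obtain ⟨Px, hPx⟩ := syl x hx
  obtain ⟨Ps, hPs⟩ := syl s hs
  obtain ⟨c, hc⟩ := MulAction.exists_smul_eq ↥G4 Ps Px
  have hmem : c * s * c⁻¹ ∈ Subgroup.zpowers x := by
    rw [← hPx, ← hc]
    exact Subgroup.mem_map.2 ⟨s, hPs ▸ Subgroup.mem_zpowers s, rfl⟩
  obtain ⟨i, hi⟩ := Subgroup.mem_zpowers_iff.1 hmem
  have hfix : ∀ k : ℕ, ((rho (x ^ k) : GL (Fin 6) Q4) : Matrix (Fin 6) (Fin 6) Q4) *ᵥ v = v := by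
    intro k
    induction k with
    | zero => simp
    | succ k ih => rw [pow_succ, map_mul, Units.val_mul, ← Matrix.mulVec_mulVec, hv, ih]
  obtain ⟨k, hk⟩ : ∃ k : ℕ, x ^ i = x ^ k := by
    obtain ⟨k, hk⟩ := mem_powers_iff_mem_zpowers.2 (Subgroup.zpow_mem_zpowers x i)
    exact ⟨k, hk.symm⟩
  have hw := hfree ((rho c⁻¹ : Matrix (Fin 6) (Fin 6) Q4) *ᵥ v) ?_
  · have := congrArg ((rho c : Matrix (Fin 6) (Fin 6) Q4) *ᵥ ·) hw
    simpa [Matrix.mulVec_mulVec, ← Units.val_mul, ← map_mul] using this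
  · have e : s = c⁻¹ * x ^ k * c := by rw [← hk, hi]; group
    calc (rho s : Matrix (Fin 6) (Fin 6) Q4) *ᵥ ((rho c⁻¹ : Matrix (Fin 6) (Fin 6) Q4) *ᵥ v)
        = ((rho (c⁻¹ * x ^ k) : GL (Fin 6) Q4) : Matrix (Fin 6) (Fin 6) Q4) *ᵥ v := by
          rw [Matrix.mulVec_mulVec, ← Units.val_mul, ← map_mul, e, mul_inv_cancel_right]
      _ = _ := by rw [map_mul, Units.val_mul, ← Matrix.mulVec_mulVec, hfix k]

end CfsgLib.G2Four
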