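import Cfsg.Prelude.Def_ChevG2
import Cfsg.Agent.Lib.G2Four.Field
import Cfsg.Agent.Lib.G2Four.Data

/-!
Packed matrices, and the root elements of the adjoint module.
-/

set_option autoImplicit false
set_option maxRecDepth 100000

namespace CfsgLib.G2Four

open Cfsg.Lie

/-- entry `k` of a packed array -/
def ent (n k : ℕ) : ℕ := (n >>> (2 * k)) &&& 3

/-- multiplication of codes -/
def mulN (a b : ℕ) : ℕ := ent Data.mulT (4 * a + b)

/-- decoding -/
def dec4 : ℕ → Q4
  | 0 => Q4.o
  | 1 => Q4.e
  | 2 => Q4.w
  | _ => Q4.x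

/-- coding -/
def code : Q4 → ℕ
  | Q4.o => 0
  | Q4.e => 1
  | Q4.w => 2
  | Q4.x => 3

/-- position of a basis vector -/
def pidx : chevG2.Idx → ℕ
  | Sum.inl k => k.val
  | Sum.inr u => 2 + u.val

/-- packed adjoint root element -/
def xN (r t i j : ℕ) : ℕ := ent (Data.xT.getD (4 * r + t) 0) (14 * i + j)

/-- all codes -/
def qs : List Q4 := [Q4.o, Q4.e, Q4.w, Q4.x]

/-- all basis vectors -/
def idxs : List chevG2.Idx :=
  (List.finRange chevG2.rank).map Sum.inl ++ (List.finRange chevG2.nroots).map Sum.inr

theorem mem_qs (t : Q4) : t ∈ qs := by cases t <;> decide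

theorem mem_idxs (i : chevG2.Idx) : i ∈ idxs := by rcases i with k | u <;> simp [idxs]

/-- agreement of the adjoint root elements with the packed table -/
def xLink (r : Fin chevG2.nroots) : Bool :=
  qs.all fun t => idxs.all fun i => idxs.all fun j =>
    decide (chevG2.xMat Q4 r t i j = dec4 (xN r.val (code t) (pidx i) (pidx j)))

theorem x_link_all : ((List.finRange chevG2.nroots).all xLink) = true := by
  decide +kernel

theorem x_link (r : Fin chevG2.nroots) (t : Q4) (i j : chevG2.Idx) :
    chevG2.xMat Q4 r t i j = dec4 (xN r.val (code t) (pidx i) (pidx j)) := by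
  have h := x_link_all
  rw [List.all_eq_true] at h
  have h1 := h r (List.mem_finRange r)
  simp only [xLink, List.all_eq_true, decide_eq_true_eq] at h1
  exact h1 t (mem_qs t) i (mem_idxs i) j (mem_idxs j)

end CfsgLib.G2Four
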