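import Cfsg.Agent.Lib.G2Four.Check

/-!
The six-dimensional representation of the Chevalley group of type G2 over four elements.
-/

set_option autoImplicit false
set_option linter.style.haveILetI false

namespace CfsgLib.G2Four

open Cfsg.Lie Matrix

/-- codes below four -/
theorem ent_lt (n k : ℕ) : ent n k < 4 := Nat.lt_succ_of_le Nat.and_le_right

theorem code_lt (t : Q4) : code t < 4 := by cases t <;> decide

theorem dec4_code (t : Q4) : dec4 (code t) = t := by cases t <;> rfl

theorem dec4_xor : ∀ a < 4, ∀ b < 4, dec4 (a ^^^ b) = dec4 a + dec4 b ∧ a ^^^ b < 4 := by decide +kernel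

theorem dec4_mulN : ∀ a < 4, ∀ b < 4, dec4 (mulN a b) = dec4 a * dec4 b := by decide +kernel

theorem dec4_mulZ {a b : ℕ} (ha : a < 4) (hb : b < 4) :
    dec4 (mulZ a b) = dec4 a * dec4 b ∧ mulZ a b < 4 := by
  rcases Nat.eq_zero_or_pos a with rfl | h
  · exact ⟨(zero_mul _).symm, Nat.zero_lt_succ 3⟩
  · have e : mulZ a b = mulN a b := by
      show (bif a == 0 then 0 else mulN a b) = _
      rw [beq_eq_false_iff_ne.2 h.ne']; rfl
    rw [e]
    exact ⟨dec4_mulN a ha b hb, ent_lt _ _⟩

theorem dec4_sumN : ∀ (n : ℕ) (f : ℕ → ℕ), (∀ k < n, f k < 4) →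
    dec4 (sumN n f) = ∑ k : Fin n, dec4 (f k) ∧ sumN n f < 4
  | 0, f, _ => by simp [sumN, dec4]; rfl
  | n + 1, f, h => by
    obtain ⟨h1, h2⟩ := dec4_sumN n f fun k hk => h k (hk.trans n.lt_succ_self)
    obtain ⟨h3, h4⟩ := dec4_xor _ h2 _ (h n n.lt_succ_self)
    refine ⟨?_, h4⟩
    rw [Fin.sum_univ_castSucc]
    simpa [sumN, h1] using h3

theorem yN_lt (r t i j : ℕ) : yN r t i j < 4 := ent_lt _ _

theorem sN_lt (k a b : ℕ) : sN k a b < 4 := ent_lt _ _

theorem xN_lt (r t i j : ℕ) : xN r t i j < 4 := ent_lt _ _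

theorem dec4_bif (a b : ℕ) : dec4 (bif a == b then 1 else 0) = if a = b then (1 : Q4) else 0 := by
  by_cases hab : a = b
  · rw [if_pos hab, beq_iff_eq.2 hab]; rfl
  · rw [if_neg hab, beq_eq_false_iff_ne.2 hab]; rfl

theorem dec4_inj : ∀ a < 4, ∀ b < 4, dec4 a = dec4 b → a = b := by decide +kernel

/-- six-dimensional root elements -/
def Ym (r : Fin chevG2.nroots) (t : Q4) : Matrix (Fin 6) (Fin 6) Q4 :=
  Matrix.of fun i j => dec4 (yN r.val (code t) i.val j.val)

/-- the pairings and the form -/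
def Sm : Option chevG2.Idx → Matrix (Fin 6) (Fin 6) Q4
  | none => Matrix.of fun a b => dec4 (sN 14 a.val b.val)
  | some k => Matrix.of fun a b => dec4 (sN (pidx k) a.val b.val)

theorem sum_idx (f : ℕ → Q4) : ∑ k : chevG2.Idx, f (pidx k) = ∑ k : Fin 14, f k.val :=
  Fintype.sum_equiv (finSumFinEquiv (m := 2) (n := 12)) _ _ fun k => by
    rcases k with k | u <;> rfl

theorem pidx_lt (i : chevG2.Idx) : pidx i < 14 := by
  rcases i with k | u
  · have := k.isLt; show k.val < 14; change k.val < 2 at this; omega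
  · have := u.isLt; show 2 + u.val < 14; change u.val < 12 at this; omega

theorem pidx_inj {i j : chevG2.Idx} (h : pidx i = pidx j) : i = j := by
  rcases i with k | u <;> rcases j with k' | u' <;> simp [pidx] at h
  · exact congrArg Sum.inl (Fin.ext h)
  · have := k.isLt; change k.val < 2 at this; omega
  · have := k'.isLt; change k'.val < 2 at this; omega
  · exact congrArg Sum.inr (Fin.ext h)

theorem root_fields (r : Fin chevG2.nroots) (t : Q4) :
    ((Ym r t)ᵀ * Sm none * Ym r t = Sm none) ∧ Ym r t * Ym r t = 1 ∧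
      (∀ i : chevG2.Idx, (Ym r t)ᵀ * Sm (some i) * Ym r t =
        Matrix.of fun a b => ∑ k : chevG2.Idx, chevG2.xMat Q4 r t i k * Sm (some k) a b) ∧
      chevG2.xMat Q4 r t * chevG2.xMat Q4 r t = 1 := by
  have h := allN_iff rootChk_all r.val r.isLt
  unfold rootChk at h
  have h' := allN_iff h (code t) (code_lt t)
  simp only [Bool.and_eq_true] at h'
  obtain ⟨⟨hA, hB⟩, hC⟩ := h'
  have hl : ∀ k a b : ℕ, dec4 (lhsN r.val (code t) k a b) =
      ∑ c : Fin 6, dec4 (yN r.val (code t) c.val a) *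
        ∑ d : Fin 6, dec4 (sN k c.val d.val) * dec4 (yN r.val (code t) d.val b) := by
    intro k a b
    have hin : ∀ c : ℕ, sumN 6 (fun d => mulZ (sN k c d) (yN r.val (code t) d b)) < 4 :=
      fun c => (dec4_sumN 6 _ fun d _ => (dec4_mulZ (by first | exact yN_lt _ _ _ _ | exact sN_lt _ _ _ | exact xN_lt _ _ _ _) (by first | exact yN_lt _ _ _ _ | exact sN_lt _ _ _ | exact xN_lt _ _ _ _)).2).2
    rw [lhsN, (dec4_sumN 6 _ fun c _ => (dec4_mulZ (yN_lt _ _ _ _) (hin c)).2).1]
    refine Finset.sum_congr rfl fun c _ => ?_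
    rw [(dec4_mulZ (yN_lt _ _ _ _) (hin c.val)).1,
      (dec4_sumN 6 _ fun d _ => (dec4_mulZ (by first | exact yN_lt _ _ _ _ | exact sN_lt _ _ _ | exact xN_lt _ _ _ _) (by first | exact yN_lt _ _ _ _ | exact sN_lt _ _ _ | exact xN_lt _ _ _ _)).2).1]
    exact congrArg _ (Finset.sum_congr rfl fun d _ => (dec4_mulZ (by first | exact yN_lt _ _ _ _ | exact sN_lt _ _ _ | exact xN_lt _ _ _ _) (by first | exact yN_lt _ _ _ _ | exact sN_lt _ _ _ | exact xN_lt _ _ _ _)).1)
  have hprod : ∀ (A : Matrix (Fin 6) (Fin 6) Q4) a b, ((Ym r t)ᵀ * A * Ym r t) a b =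
      ∑ c, Ym r t c a * ∑ d, A c d * Ym r t d b := by
    intro A a b
    rw [Matrix.mul_assoc]
    simp [Matrix.mul_apply]
  have hone := dec4_bif
  refine ⟨?_, ?_, fun i => ?_, ?_⟩
  · ext a b
    have h1 := allN_iff (allN_iff hA a.val a.isLt) b.val b.isLt
    simp only [Bool.and_eq_true, beq_iff_eq] at h1
    rw [hprod]
    exact (hl 14 a.val b.val).symm.trans (congrArg dec4 h1.1)
  · ext a b
    have h1 := allN_iff (allN_iff hA a.val a.isLt) b.val b.isLt
    simp only [Bool.and_eq_true, beq_iff_eq] at h1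
    have h2 := congrArg dec4 h1.2
    rw [(dec4_sumN 6 _ fun c _ => (dec4_mulZ (by first | exact yN_lt _ _ _ _ | exact sN_lt _ _ _ | exact xN_lt _ _ _ _) (by first | exact yN_lt _ _ _ _ | exact sN_lt _ _ _ | exact xN_lt _ _ _ _)).2).1, hone] at h2
    rw [Matrix.mul_apply, Matrix.one_apply]
    simp only [Fin.val_inj] at h2
    rw [← h2]
    exact Finset.sum_congr rfl fun c _ => ((dec4_mulZ (by first | exact yN_lt _ _ _ _ | exact sN_lt _ _ _ | exact xN_lt _ _ _ _) (by first | exact yN_lt _ _ _ _ | exact sN_lt _ _ _ | exact xN_lt _ _ _ _)).1).symm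
  · ext a b
    have h1 := allN_iff (allN_iff (allN_iff hB (pidx i) (pidx_lt i)) a.val a.isLt) b.val b.isLt
    simp only [beq_iff_eq] at h1
    rw [hprod]
    refine (hl (pidx i) a.val b.val).symm.trans ((congrArg dec4 h1).trans ?_)
    rw [(dec4_sumN 14 _ fun c _ => (dec4_mulZ (by first | exact yN_lt _ _ _ _ | exact sN_lt _ _ _ | exact xN_lt _ _ _ _) (by first | exact yN_lt _ _ _ _ | exact sN_lt _ _ _ | exact xN_lt _ _ _ _)).2).1]
    show _ = ∑ k : chevG2.Idx, chevG2.xMat Q4 r t i k * Sm (some k) a b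
    rw [← sum_idx fun k => dec4 (mulZ (sN k a.val b.val) (xN r.val (code t) (pidx i) k))]
    refine Finset.sum_congr rfl fun k _ => ?_
    rw [x_link, mul_comm, (dec4_mulZ (by first | exact yN_lt _ _ _ _ | exact sN_lt _ _ _ | exact xN_lt _ _ _ _) (by first | exact yN_lt _ _ _ _ | exact sN_lt _ _ _ | exact xN_lt _ _ _ _)).1]
    rfl
  · ext i j
    have h1 := allN_iff (allN_iff hC (pidx i) (pidx_lt i)) (pidx j) (pidx_lt j)
    simp only [beq_iff_eq] at h1
    have h2 := congrArg dec4 h1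
    rw [(dec4_sumN 14 _ fun c _ => (dec4_mulZ (by first | exact yN_lt _ _ _ _ | exact sN_lt _ _ _ | exact xN_lt _ _ _ _) (by first | exact yN_lt _ _ _ _ | exact sN_lt _ _ _ | exact xN_lt _ _ _ _)).2).1, hone,
      ← sum_idx fun k => dec4 (mulZ (xN r.val (code t) (pidx i) k) (xN r.val (code t) k (pidx j)))] at h2
    rw [Matrix.mul_apply, Matrix.one_apply]
    rw [if_congr (show (pidx i = pidx j) ↔ i = j from ⟨pidx_inj, congrArg pidx⟩) rfl rfl] at h2
    rw [← h2]
    exact Finset.sum_congr rfl fun k _ => by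
      rw [x_link, x_link, (dec4_mulZ (by first | exact yN_lt _ _ _ _ | exact sN_lt _ _ _ | exact xN_lt _ _ _ _) (by first | exact yN_lt _ _ _ _ | exact sN_lt _ _ _ | exact xN_lt _ _ _ _)).1]

/-- the group generated by the adjoint root elements -/
abbrev G4 : Subgroup (GL chevG2.Idx Q4) := chevG2.group Q4

/-- compatibility of an element of dimension six with one of the adjoint module -/
def Compat (g : GL (Fin 6) Q4) (M : GL chevG2.Idx Q4) : Prop :=
  (g : Matrix (Fin 6) (Fin 6) Q4)ᵀ * Sm none * g = Sm none ∧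
    ∀ i : chevG2.Idx, (g : Matrix (Fin 6) (Fin 6) Q4)ᵀ * Sm (some i) * g =
      ∑ k : chevG2.Idx, (M : Matrix chevG2.Idx chevG2.Idx Q4) i k • Sm (some k)

theorem compat_one : Compat 1 1 := by
  refine ⟨by simp, fun i => ?_⟩
  rw [Finset.sum_eq_single i]
  · simp
  · intro k _ hk
    simp [Matrix.one_apply, hk.symm]
  · simp

theorem Compat.mul {g h : GL (Fin 6) Q4} {M N : GL chevG2.Idx Q4} (hg : Compat g M) (hh : Compat h N) :
    Compat (g * h) (M * N) := by
  have e : ∀ A : Matrix (Fin 6) (Fin 6) Q4, ((g * h : GL (Fin 6) Q4) : Matrix (Fin 6) (Fin 6) Q4)ᵀ * A *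
      ((g * h : GL (Fin 6) Q4) : Matrix (Fin 6) (Fin 6) Q4) =
      (h : Matrix (Fin 6) (Fin 6) Q4)ᵀ * ((g : Matrix (Fin 6) (Fin 6) Q4)ᵀ * A * g) * h := by
    intro A
    rw [Units.val_mul, Matrix.transpose_mul]
    simp only [Matrix.mul_assoc]
  refine ⟨by rw [e, hg.1, hh.1], fun i => ?_⟩
  rw [e, hg.2 i, Matrix.mul_sum, Matrix.sum_mul]
  simp only [Matrix.mul_smul, Matrix.smul_mul, hh.2, Finset.smul_sum, smul_smul]
  rw [Finset.sum_comm]
  refine Finset.sum_congr rfl fun l _ => ?_
  rw [Units.val_mul, Matrix.mul_apply, Finset.sum_smul]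

theorem Compat.pow {g : GL (Fin 6) Q4} {M : GL chevG2.Idx Q4} (hg : Compat g M) :
    ∀ n : ℕ, Compat (g ^ n) (M ^ n)
  | 0 => by simpa using compat_one
  | n + 1 => by rw [pow_succ, pow_succ]; exact (hg.pow n).mul hg

theorem Compat.inv {g : GL (Fin 6) Q4} {M : GL chevG2.Idx Q4} (hg : Compat g M) : Compat g⁻¹ M⁻¹ := by
  have h := hg.pow (orderOf (g, M) - 1)
  have e : (g, M) ^ (orderOf (g, M) - 1) = (g, M)⁻¹ :=
    eq_inv_of_mul_eq_one_left (by
      rw [← pow_succ, Nat.sub_add_cancel (orderOf_pos (g, M)), pow_orderOf_eq_one])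
  rw [show g⁻¹ = g ^ (orderOf (g, M) - 1) from (congrArg Prod.fst e).symm,
    show M⁻¹ = M ^ (orderOf (g, M) - 1) from (congrArg Prod.snd e).symm]
  exact h

/-- six-dimensional root elements as units -/
def yel (r : Fin chevG2.nroots) (t : Q4) : GL (Fin 6) Q4 :=
  ⟨Ym r t, Ym r t, (root_fields r t).2.1, (root_fields r t).2.1⟩

/-- adjoint root elements as units -/
def xel (r : Fin chevG2.nroots) (t : Q4) : GL chevG2.Idx Q4 :=
  ⟨chevG2.xMat Q4 r t, chevG2.xMat Q4 r t, (root_fields r t).2.2.2, (root_fields r t).2.2.2⟩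

theorem xel_mem (r : Fin chevG2.nroots) (t : Q4) : xel r t ∈ G4 :=
  Subgroup.subset_closure ⟨r, t, rfl⟩

theorem compat_root (r : Fin chevG2.nroots) (t : Q4) : Compat (yel r t) (xel r t) := by
  refine ⟨(root_fields r t).1, fun i => ?_⟩
  refine ((root_fields r t).2.2.1 i).trans ?_
  ext a b
  simp [Matrix.sum_apply, xel]

theorem exists_compat {M : GL chevG2.Idx Q4} (hM : M ∈ G4) : ∃ g, Compat g M := by
  induction hM using Subgroup.closure_induction with
  | mem M hM =>
    obtain ⟨r, t, h⟩ := hM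
    exact ⟨yel r t, by rw [show M = xel r t from Units.ext h]; exact compat_root r t⟩
  | one => exact ⟨1, compat_one⟩
  | mul A B _ _ hA hB =>
    obtain ⟨a, ha⟩ := hA
    obtain ⟨b, hb⟩ := hB
    exact ⟨a * b, ha.mul hb⟩
  | inv A _ hA =>
    obtain ⟨a, ha⟩ := hA
    exact ⟨a⁻¹, ha.inv⟩

theorem compat_one_right {g : GL (Fin 6) Q4} (h : Compat g 1) : g = 1 := by
  set G := (g : Matrix (Fin 6) (Fin 6) Q4) with hG
  have hS : ∀ k, Gᵀ * Sm k * G = Sm k := by
    rintro (_ | i)
    · exact h.1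
    · rw [h.2 i, Finset.sum_eq_single i]
      · simp
      · intro k _ hk
        simp [Matrix.one_apply, hk.symm]
      · simp
  have hE : ∀ c d : Fin 6, c ≠ d → ∀ a b,
      G c a * G d b + G d a * G c b = if (a = c ∧ b = d) ∨ (a = d ∧ b = c) then 1 else 0 := by
    intro c d hcd a b
    let cc : Option chevG2.Idx → Q4 := fun k =>
      dec4 (ent (Data.cT.getD (6 * c.val + d.val) 0) (k.elim 14 pidx))
    let E : Matrix (Fin 6) (Fin 6) Q4 :=
      Matrix.of fun u v => if (u = c ∧ v = d) ∨ (u = d ∧ v = c) then 1 else 0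
    have hEq : ∑ k, cc k • Sm k = E := by
      ext u v
      have h1 := allN_iff (allN_iff elemChk_eq c.val c.isLt) d.val d.isLt
      simp only [Bool.or_eq_true, beq_iff_eq, Fin.val_inj, hcd, false_or] at h1
      have h2 := allN_iff (allN_iff h1 u.val u.isLt) v.val v.isLt
      simp only [beq_iff_eq] at h2
      have h3 := congrArg dec4 h2
      rw [(dec4_sumN 15 _ fun k _ => (dec4_mulZ (ent_lt _ _) (sN_lt _ _ _)).2).1,
        Fin.sum_univ_castSucc] at h3
      have h4 : ∀ p : Prop, ∀ [Decidable p] (β : Bool), (β = true ↔ p) →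
          dec4 (bif β then 1 else 0) = if p then (1 : Q4) else 0 := by
        intro p _ β hβ
        by_cases hp : p
        · rw [if_pos hp, hβ.2 hp]; rfl
        · rw [if_neg hp, Bool.eq_false_iff.2 (fun e => hp (hβ.1 e))]; rfl
      rw [h4 ((u = c ∧ v = d) ∨ (u = d ∧ v = c)) _ (by simp [Fin.val_inj])] at h3
      rw [Matrix.sum_apply, Fintype.sum_option]
      refine Eq.trans ?_ h3
      rw [add_comm]
      simp only [Fin.val_last, Fin.val_castSucc, Matrix.smul_apply, smul_eq_mul]
      congr 1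
      · rw [← sum_idx fun k => dec4 (mulZ (ent (Data.cT.getD (6 * c.val + d.val) 0) k) (sN k u.val v.val))]
        exact Finset.sum_congr rfl fun k _ => ((dec4_mulZ (ent_lt _ _) (sN_lt _ _ _)).1).symm
      · exact ((dec4_mulZ (ent_lt _ _) (sN_lt _ _ _)).1).symm
    have hinv : Gᵀ * E * G = E := by
      rw [← hEq, Matrix.mul_sum, Matrix.sum_mul]
      exact Finset.sum_congr rfl fun k _ => by rw [Matrix.mul_smul, Matrix.smul_mul, hS]
    have hab : (Gᵀ * E * G) a b = E a b := congrFun (congrFun hinv a) b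
    refine Eq.trans ?_ hab
    rw [Matrix.mul_assoc]
    simp only [Matrix.mul_apply, Matrix.transpose_apply, E, Matrix.of_apply, ite_mul, one_mul, zero_mul]
    rw [Finset.sum_eq_add_of_mem c d (Finset.mem_univ _) (Finset.mem_univ _) hcd]
    · congr 1 <;> congr 1
      · rw [Finset.sum_eq_single d] <;> simp +contextual [hcd]
      · rw [Finset.sum_eq_single c] <;> simp +contextual [hcd, hcd.symm]
    · intro u _ hu
      simp [hu.1, hu.2]
  have htwo : ∀ x : Q4, x + x = 0 := Q4.add_self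
  have off : ∀ a i, a ≠ i → G a i = 0 := by
    intro a i hai
    obtain ⟨j, hja, hji⟩ : ∃ j : Fin 6, j ≠ a ∧ j ≠ i := by
      clear * - a i
      revert a i
      decide
    have e1 := hE a i hai i j
    rw [if_neg (by rintro (⟨h1, -⟩ | ⟨-, h2⟩); exacts [hai h1.symm, hja h2])] at e1
    have e2 := hE a j hja.symm i j
    rw [if_neg (by rintro (⟨h1, -⟩ | ⟨h1, -⟩); exacts [hai h1.symm, hji h1.symm])] at e2
    have e3 := hE i j hji.symm i j
    rw [if_pos (Or.inl ⟨rfl, rfl⟩)] at e3
    linear_combination (G i i) * e2 + (G j i) * e1 - (G a i) * e3 -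
      (htwo (G i i * G j i * G a j))
  have diag : ∀ i j, i ≠ j → G i i * G j j = 1 := by
    intro i j hij
    have e3 := hE i j hij i j
    rw [if_pos (Or.inl ⟨rfl, rfl⟩), off j i hij.symm, zero_mul, add_zero] at e3
    exact e3
  apply Units.ext
  show G = 1
  ext a i
  rw [Matrix.one_apply]
  split_ifs with hai
  · subst hai
    obtain ⟨j, k, hj, hk, hjk⟩ : ∃ j k : Fin 6, j ≠ a ∧ k ≠ a ∧ j ≠ k := by
      clear * - a
      revert a
      decide
    refine Q4.eq_one_of_sq _ ?_
    linear_combination (G a a * G a a) * (-1 : Q4) * diag j k hjk + (G a a * G k k) * diag a j hj.symm +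
      diag a k hk.symm
  · exact off a i hai

theorem compat_one_left {M : GL chevG2.Idx Q4} (h : Compat 1 M) : M = 1 := by
  apply Units.ext
  ext i k
  have hp := allN_iff (allN_iff posChk_eq (pidx k) (pidx_lt k))
  have hlt := allN_iff pos_lt (pidx k) (pidx_lt k)
  simp only [decide_eq_true_eq] at hlt
  let a : Fin 6 := ⟨Data.posT.getD (pidx k) 0 / 6, hlt⟩
  let b : Fin 6 := ⟨Data.posT.getD (pidx k) 0 % 6, Nat.mod_lt _ (by norm_num)⟩
  have hS : ∀ l, Sm (some l) a b = if l = k then 1 else 0 := by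
    intro l
    have h1 := hp (pidx l) (pidx_lt l)
    simp only [beq_iff_eq] at h1
    show dec4 (sN (pidx l) a.val b.val) = _
    rw [show sN (pidx l) a.val b.val = _ from h1]
    by_cases hlk : l = k
    · simp [hlk]; rfl
    · rw [if_neg hlk]
      have : (pidx l == pidx k) = false := by simpa using fun e => hlk (pidx_inj e)
      rw [this]; rfl
  have h2 := congrFun (congrFun (h.2 i) a) b
  simp only [Units.val_one, Matrix.transpose_one, Matrix.one_mul, Matrix.mul_one, Matrix.sum_apply,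
    Matrix.smul_apply, smul_eq_mul, hS, mul_ite, mul_one, mul_zero, Finset.sum_ite_eq',
    Finset.mem_univ, if_true] at h2
  rw [Units.val_one, Matrix.one_apply]
  exact h2.symm

theorem compat_unique {g h : GL (Fin 6) Q4} {M : GL chevG2.Idx Q4} (hg : Compat g M) (hh : Compat h M) :
    g = h := by
  have := compat_one_right (by simpa using hg.inv.mul hh)
  exact inv_mul_eq_one.1 this

/-- the six-dimensional representation -/
noncomputable def rho : ↥G4 →* GL (Fin 6) Q4 :=
  MonoidHom.mk' (fun M => (exists_compat M.2).choose) fun A B =>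
    compat_unique (exists_compat (A * B).2).choose_spec
      ((exists_compat A.2).choose_spec.mul (exists_compat B.2).choose_spec)

theorem rho_spec (M : ↥G4) : Compat (rho M) M := (exists_compat M.2).choose_spec

theorem rho_injective : Function.Injective rho := by
  refine (injective_iff_map_eq_one rho).2 fun M hM => ?_
  have := rho_spec M
  rw [hM] at this
  exact Subtype.ext (compat_one_left this)

theorem rho_xel (r : Fin chevG2.nroots) (t : Q4) : rho ⟨xel r t, xel_mem r t⟩ = yel r t :=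
  compat_unique (rho_spec _) (compat_root r t)

/-- unpacking -/
def unp (A : ℕ) : Matrix (Fin 6) (Fin 6) Q4 := Matrix.of fun i j => dec4 (ent A (6 * i.val + j.val))

theorem unp_mul {A B C : ℕ} (h : mulChk A B C = true) : unp A * unp B = unp C := by
  ext i j
  have h1 := allN_iff (allN_iff h i.val i.isLt) j.val j.isLt
  simp only [beq_iff_eq] at h1
  refine Eq.trans ?_ (congrArg dec4 h1)
  rw [(dec4_sumN 6 _ fun k _ => (dec4_mulZ (ent_lt _ _) (ent_lt _ _)).2).1, Matrix.mul_apply]
  exact Finset.sum_congr rfl fun k _ => ((dec4_mulZ (ent_lt _ _) (ent_lt _ _)).1).symm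

theorem unp_one : unp oneP = 1 := by
  ext i j
  have h1 := allN_iff (allN_iff oneP_eq i.val i.isLt) j.val j.isLt
  simp only [beq_iff_eq] at h1
  show dec4 (ent oneP (6 * i.val + j.val)) = _
  rw [h1, Matrix.one_apply]
  by_cases hij : i = j
  · simp [hij]; rfl
  · rw [if_neg hij, show (i.val == j.val) = false by simpa [Fin.val_inj] using hij]; rfl

end CfsgLib.G2Four
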