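import Cfsg.Agent.Lib.G2Four.FixedFree
import Cfsg.Agent.Lib.KnownB.ChevField
import Cfsg.Agent.S2520

/-!
Groups of unbounded order with the prime graph of G2 over four elements.
-/

set_option autoImplicit false
set_option linter.style.haveILetI false

namespace CfsgLib.G2Four

open Cfsg.Lie Matrix

/-- the Chevalley groups over isomorphic fields are isomorphic -/
theorem group_equiv {F : Type*} [Field F] (e : F ≃+* Q4) : Nonempty (↥(chevG2.group F) ≃* ↥G4) := by
  let f : ↥(chevG2.group F) →* ↥G4 :=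
    ((Matrix.GeneralLinearGroup.map e.toRingHom).comp (chevG2.group F).subtype).codRestrict G4 fun x =>
      CfsgLib.KnownB.ChevField.group_map_le CfsgLib.Chev.stdG2.good e.toRingHom ⟨x, x.2, rfl⟩
  refine ⟨MulEquiv.ofBijective f ⟨fun a b h => ?_, fun y => ?_⟩⟩
  · refine Subtype.ext (Units.ext (Matrix.map_injective e.injective ?_))
    exact congrArg (fun z : ↥G4 => ((z : GL chevG2.Idx Q4) : Matrix chevG2.Idx chevG2.Idx Q4)) h
  · refine ⟨⟨Matrix.GeneralLinearGroup.map e.symm.toRingHom y,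
      CfsgLib.KnownB.ChevField.group_map_le CfsgLib.Chev.stdG2.good e.symm.toRingHom ⟨y, y.2, rfl⟩⟩, ?_⟩
    refine Subtype.ext (Units.ext ?_)
    ext i j
    exact e.apply_symm_apply _

theorem exists_order {n : ℕ} (h : n ∈ ({6, 10} : Set ℕ)) : ∃ g : ↥G4, orderOf g = n := by
  have := (Cfsg.Agent.S2520.result (F := Q4) 2 le_rfl Q4.card_eq).2
  refine this ?_
  simp only [Set.mem_insert_iff, Set.mem_singleton_iff] at h ⊢
  omega

theorem prime_cases {q : ℕ} (hq : q.Prime) (h : q ∣ Nat.card ↥G4) :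
    q = 2 ∨ q = 3 ∨ q = 5 ∨ q = 7 ∨ q = 13 := by
  rw [card_G4, show (4 : ℕ) ^ 6 * (4 ^ 2 - 1) * (4 ^ 6 - 1) = 2 ^ 12 * (3 ^ 3 * (5 ^ 2 * (7 * 13))) by
    norm_num] at h
  rcases hq.dvd_mul.1 h with h | h
  · exact Or.inl ((Nat.prime_dvd_prime_iff_eq hq Nat.prime_two).1 (hq.dvd_of_dvd_pow h))
  rcases hq.dvd_mul.1 h with h | h
  · exact Or.inr (Or.inl ((Nat.prime_dvd_prime_iff_eq hq Nat.prime_three).1 (hq.dvd_of_dvd_pow h)))
  rcases hq.dvd_mul.1 h with h | h
  · exact Or.inr (Or.inr (Or.inl ((Nat.prime_dvd_prime_iff_eq hq (by norm_num)).1 (hq.dvd_of_dvd_pow h))))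
  rcases hq.dvd_mul.1 h with h | h
  · exact Or.inr (Or.inr (Or.inr (Or.inl ((Nat.prime_dvd_prime_iff_eq hq (by norm_num)).1 h))))
  · exact Or.inr (Or.inr (Or.inr (Or.inr ((Nat.prime_dvd_prime_iff_eq hq (by norm_num)).1 h))))

/-- the module: `N` copies of the six-dimensional one -/
abbrev V (N : ℕ) : Type := Fin N → Fin 6 → Q4

/-- the action -/
noncomputable def act (N : ℕ) : ↥G4 →* MulAut (Multiplicative (V N)) where
  toFun g :=
    { toFun := fun v => Multiplicative.ofAdd fun j => (rho g : Matrix (Fin 6) (Fin 6) Q4) *ᵥ Multiplicative.toAdd v j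
      invFun := fun v =>
        Multiplicative.ofAdd fun j => (rho g⁻¹ : Matrix (Fin 6) (Fin 6) Q4) *ᵥ Multiplicative.toAdd v j
      left_inv := fun v => by simp [Matrix.mulVec_mulVec]
      right_inv := fun v => by simp [Matrix.mulVec_mulVec]
      map_mul' := fun v w => by
        rw [← ofAdd_add]
        congr 1
        funext j
        exact Matrix.mulVec_add _ _ _ }
  map_one' := by ext v : 1; simp
  map_mul' g h := by ext v : 1; simp [Matrix.mulVec_mulVec]

theorem act_apply (N : ℕ) (g : ↥G4) (v : Multiplicative (V N)) (j : Fin N) :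
    Multiplicative.toAdd (act N g v) j = (rho g : Matrix (Fin 6) (Fin 6) Q4) *ᵥ Multiplicative.toAdd v j :=
  rfl

/-- the witness -/
abbrev H (N : ℕ) : Type := Multiplicative (V N) ⋊[act N] ↥G4

theorem witness {F : Type*} [Field F] [Fintype F] (hF : Fintype.card F = 4) (N : ℕ) :
    ∃ (H : Type) (_ : Group H) (_ : Finite H), N < Nat.card H ∧
      ((∀ p : ℕ, p.Prime → (p ∣ Nat.card ↥(chevG2.group F) ↔ p ∣ Nat.card H)) ∧
      (∀ p q : ℕ, p.Prime → q.Prime → p ≠ q →
        ((∃ g : ↥(chevG2.group F), orderOf g = p * q) ↔ (∃ g : H, orderOf g = p * q)))) := by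
  obtain ⟨ψ⟩ := group_equiv (FiniteField.ringEquivOfCardEq (K := F) (K' := Q4) (by rw [hF, Q4.card_eq]))
  have hG : Nat.card ↥(chevG2.group F) = Nat.card ↥G4 := Nat.card_congr ψ.toEquiv
  have horder : ∀ n, (∃ g : ↥(chevG2.group F), orderOf g = n) ↔ ∃ g : ↥G4, orderOf g = n := fun n =>
    ⟨fun ⟨g, hg⟩ => ⟨ψ g, by rw [MulEquiv.orderOf_eq, hg]⟩,
      fun ⟨g, hg⟩ => ⟨ψ.symm g, by rw [MulEquiv.orderOf_eq, hg]⟩⟩
  haveI : Finite (H N) := Finite.of_equiv _ SemidirectProduct.equivProd.symm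
  have hV : Nat.card (Multiplicative (V N)) = 4 ^ (6 * N) := by
    rw [Nat.card_congr Multiplicative.toAdd, Nat.card_fun, Nat.card_fun, Nat.card_eq_fintype_card (α := Q4),
      Q4.card_eq, Nat.card_fin, Nat.card_fin, ← pow_mul]
  have hH : Nat.card (H N) = 4 ^ (6 * N) * Nat.card ↥G4 := by rw [SemidirectProduct.card, hV]
  have h2 : 2 ∣ Nat.card ↥G4 := by rw [card_G4]; norm_num
  refine ⟨H N, inferInstance, inferInstance, ?_, fun p hp => ?_, fun p q hp hq hpq => ?_⟩
  · rw [hH]
    calc N ≤ 6 * N := by omega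
      _ < 4 ^ (6 * N) := Nat.lt_pow_self (by norm_num)
      _ ≤ _ := Nat.le_mul_of_pos_right _ Nat.card_pos
  · rw [hG, hH]
    refine ⟨fun h => dvd_mul_of_dvd_right h _, fun h => ?_⟩
    rcases hp.dvd_mul.1 h with h | h
    · rw [(Nat.prime_dvd_prime_iff_eq hp Nat.prime_two).1
        (hp.dvd_of_dvd_pow (show p ∣ 2 ^ (2 * (6 * N)) by rw [pow_mul]; exact h))]
      exact h2
    · exact h
  rw [horder]
  constructor
  · rintro ⟨g, hg⟩
    exact ⟨SemidirectProduct.inr g, by
      rw [orderOf_injective _ SemidirectProduct.inr_injective, hg]⟩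
  rintro ⟨h, hh⟩
  set o := orderOf h.right with ho
  have hdvd : o ∣ p * q := hh ▸ orderOf_map_dvd (SemidirectProduct.rightHom (φ := act N)) h
  obtain ⟨v, hv⟩ : ∃ v, h ^ o = SemidirectProduct.inl v := by
    have : h ^ o ∈ (SemidirectProduct.rightHom (φ := act N)).ker := by
      rw [MonoidHom.mem_ker, map_pow]; exact pow_orderOf_eq_one h.right
    rw [← SemidirectProduct.range_inl_eq_ker_rightHom] at this
    obtain ⟨v, hv⟩ := this
    exact ⟨v, hv.symm⟩
  have hvsq : v * v = 1 := by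
    apply Multiplicative.toAdd.injective
    funext j i
    exact Q4.add_self _
  have h2o : p * q ∣ o * 2 := hh ▸ orderOf_dvd_of_pow_eq_one (by
    rw [pow_mul, hv, pow_two, ← map_mul, hvsq, map_one])
  suffices key : ∀ q : ℕ, q.Prime → q ≠ 2 → orderOf h = 2 * q → ∃ g : ↥G4, orderOf g = 2 * q by
    by_cases hp2 : p = 2
    · subst hp2
      exact key q hq (fun e => hpq e.symm) hh
    by_cases hq2 : q = 2
    · subst hq2
      obtain ⟨g, hg⟩ := key p hp hp2 (by rw [hh, mul_comm])
      exact ⟨g, by rw [hg, mul_comm]⟩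
    · refine ⟨h.right, Nat.dvd_antisymm hdvd (Nat.Coprime.dvd_of_dvd_mul_right ?_ h2o)⟩
      exact Nat.Coprime.mul_left ((Nat.coprime_primes hp Nat.prime_two).2 hp2)
        ((Nat.coprime_primes hq Nat.prime_two).2 hq2)
  intro q hq hq2 hh'
  rw [← hh, hh'] at hdvd h2o
  have ho2 : o = q ∨ o = 2 * q := by
    obtain ⟨c, hc⟩ : q ∣ o := Nat.dvd_of_mul_dvd_mul_left Nat.two_pos (by rwa [mul_comm 2 o])
    have : c ∣ 2 := Nat.dvd_of_mul_dvd_mul_left hq.pos (by
      rw [← hc, mul_comm q 2]; exact hdvd)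
    rcases (Nat.dvd_prime Nat.prime_two).1 this with rfl | rfl
    · exact Or.inl (by rw [hc, mul_one])
    · exact Or.inr (by rw [hc, mul_comm])
  rcases ho2 with hoq | hoq
  swap
  · exact ⟨h.right, hoq⟩
  have hqG : q ∣ Nat.card ↥G4 := hoq ▸ orderOf_dvd_natCard _
  rcases prime_cases hq hqG with rfl | rfl | rfl | hq' | hq'
  · exact absurd rfl hq2
  · exact exists_order (Or.inl rfl)
  · exact exists_order (Or.inr rfl)
  all_goals
    exfalso
    have hcomm : h * h ^ o = h ^ o * h := (Commute.self_pow h o).eq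
    rw [hv] at hcomm
    have hl := congrArg SemidirectProduct.left hcomm
    simp only [SemidirectProduct.mul_left, SemidirectProduct.left_inl, SemidirectProduct.right_inl, map_one,
      MulAut.one_apply] at hl
    rw [mul_comm v, mul_left_cancel_iff] at hl
    have hv1 : v = 1 := by
      apply Multiplicative.toAdd.injective
      funext j
      have := congrArg (fun w : Multiplicative (V N) => Multiplicative.toAdd w j) hl
      simp only [act_apply] at this
      exact fixed_free hoq (by omega) this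
    rw [hv1, map_one] at hv
    have := orderOf_dvd_of_pow_eq_one hv
    rw [hh', hoq] at this
    have := Nat.le_of_dvd hq.pos this
    omega

end CfsgLib.G2Four
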